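import Mathlib
import Cfsg.Agent.Lib.ThreePQ.Setup
import Cfsg.Agent.Lib.DefectOne.BlockD
import Cfsg.Agent.Lib.DefectOne.Inertia
import Cfsg.Agent.S3331

/-!
# The Fermat branch: `p = 2^i + 1`
-/

set_option autoImplicit false
set_option linter.unusedSectionVars false
set_option linter.style.haveILetI false

namespace Cfsg.Agent.Lib.ThreePQ

open Cfsg Subgroup Module Finset
open Cfsg.Agent.Lib.Char.Values Cfsg.Agent.Lib.DefectOne

universe u

variable {G : Type u} [Group G] [Finite G]

/-- A Sylow subgroup for a prime dividing the order exactly once has prime order. -/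
lemma card_sylow_of_not_sq {p : ℕ} [hp : Fact p.Prime] (P : Sylow p G) (h1 : p ∣ Nat.card G)
    (h2 : ¬ p ^ 2 ∣ Nat.card G) : Nat.card P = p := by
  obtain ⟨k, hk⟩ := IsPGroup.iff_card.1 P.isPGroup'
  have h3 : p ^ 1 ∣ Nat.card P := P.pow_dvd_card_of_pow_dvd_card (by simpa using h1)
  have h4 : Nat.card P ∣ Nat.card G := Subgroup.card_subgroup_dvd_card _
  rw [hk] at h3 h4 ⊢
  have h5 : 1 ≤ k := (Nat.pow_dvd_pow_iff_le_right hp.out.one_lt).1 h3
  have h6 : k < 2 := by
    by_contra hlt
    exact h2 ((pow_dvd_pow p (by omega)).trans h4)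
  have h7 : k = 1 := by omega
  rw [h7, pow_one]

lemma centralizer_zpowers_of_cen {x : G} (hcen : ∀ c : G, c * x = x * c → c ∈ zpowers x) :
    centralizer (zpowers x : Set G) = zpowers x := by
  apply le_antisymm
  · intro c hc
    exact hcen c (Subgroup.mem_centralizer_iff.1 hc x (Subgroup.mem_zpowers x)).symm
  · intro c hc
    rw [Subgroup.mem_centralizer_iff]
    intro h hh
    obtain ⟨k, rfl⟩ := Subgroup.mem_zpowers_iff.1 hc
    obtain ⟨l, rfl⟩ := Subgroup.mem_zpowers_iff.1 hh
    exact ((Commute.refl x).zpow_zpow _ _).symm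

lemma alphaG_one {p : ℕ} [hp : Fact p.Prime] {x : G} {H : Subgroup G} [Fintype G] (hL : LocalData p x H) :
    alphaG hL (1 : G) = 1 :=
  alphaG_of_comm hL (by simp)

lemma alphaG_pow {p : ℕ} [hp : Fact p.Prime] {x : G} {H : Subgroup G} [Fintype G] (hL : LocalData p x H)
    {g : G} (hg : g ∈ normalizer (zpowers x : Set G)) (k : ℕ) : alphaG hL (g ^ k) = alphaG hL g ^ k := by
  induction k with
  | zero => rw [pow_zero, pow_zero, alphaG_one]
  | succ k ih =>
    rw [pow_succ, pow_succ, alphaG_mul hL (Subgroup.pow_mem _ hg k) hg, ih]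

section Simple

variable [IsSimpleGroup G]

open Cfsg.Agent.Lib.Blocks.PrimeDegs

/-- The order of a quotient of a simple group. -/
lemma card_quot_simple (N : Subgroup G) (hN : N.Normal) : Nat.card (G ⧸ N) = 1 ∨ Nat.card (G ⧸ N) = Nat.card G := by
  rcases (inferInstance : IsSimpleGroup G).eq_bot_or_eq_top_of_normal N hN with rfl | rfl
  · right
    exact Nat.card_congr (QuotientGroup.quotientBot (G := G)).toEquiv
  · left
    rw [← Subgroup.index, Subgroup.index_top]

lemma card_A5 : Nat.card (alternatingGroup (Fin 5)) = 60 := by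
  have h := two_mul_card_alternatingGroup (α := Fin 5)
  rw [Fintype.card_perm, Fintype.card_fin] at h
  rw [Nat.card_eq_fintype_card]
  have : Nat.factorial 5 = 120 := rfl
  omega

/-- A self-centralizing subgroup of order `3` gives the conclusion. -/
theorem conclusion_of_selfcent (hbig : 6 < Nat.card G) (X : Subgroup G) (hX : Nat.card X = 3)
    (hC : centralizer (X : Set G) = X) :
    Nonempty (G ≃* alternatingGroup (Fin 5)) ∨ Nonempty (G ≃* Matrix.ProjectiveSpecialLinearGroup (Fin 2) (ZMod 7)) := by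
  rcases Cfsg.Agent.S3331.result X hX hC with ⟨N, hN, -, -, h⟩ | ⟨N, hN, -, -, ⟨e⟩⟩ | h
  · exfalso
    have hq := card_quot_simple N hN
    rcases h with h | ⟨⟨e⟩⟩
    · omega
    · have h6 : Nat.card (G ⧸ N) = 6 := by
        rw [Nat.card_congr e.toEquiv, Nat.card_eq_fintype_card, Fintype.card_perm, Fintype.card_fin]
        rfl
      omega
  · left
    rcases (inferInstance : IsSimpleGroup G).eq_bot_or_eq_top_of_normal N hN with rfl | rfl
    · exact ⟨(QuotientGroup.quotientBot (G := G)).symm.trans e⟩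
    · exfalso
      have h1 := Nat.card_congr e.toEquiv
      rw [card_A5, ← Subgroup.index, Subgroup.index_top] at h1
      omega
  · right
    exact h

/-- The Fermat branch. -/
theorem fermat_case (hna : ∃ x y : G, x * y ≠ y * x) {p b i : ℕ} [hp : Fact p.Prime]
    (hG : Nat.card G = 3 * p * 2 ^ b) (hi : 2 ≤ i) (hpe : p = 2 ^ i + 1) (L U : IrrCharacter G)
    (hLne : (L : G → ℂ) ≠ fun _ => 1)
    (hsing : ∀ g, 3 ∣ orderOf g → (L : G → ℂ) g = 1 ∧ (U : G → ℂ) g = -1)
    (hdL : charDegree (L : G → ℂ) = 2 ^ i) :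
    Nonempty (G ≃* alternatingGroup (Fin 5)) ∨
      Nonempty (G ≃* Matrix.ProjectiveSpecialLinearGroup (Fin 2) (ZMod 7)) := by
  classical
  letI : Fintype G := Fintype.ofFinite G
  haveI hf3 : Fact (Nat.Prime 3) := ⟨Nat.prime_three⟩
  have hpp := hp.out
  have h4i : 4 ≤ 2 ^ i := by
    calc 4 = 2 ^ 2 := by norm_num
      _ ≤ 2 ^ i := Nat.pow_le_pow_right (by norm_num) hi
  have hp5 : 5 ≤ p := by omega
  have hp3 : p ≠ 3 := by omega
  have hp2 : p ≠ 2 := by omega
  have h2b : 1 ≤ 2 ^ b := Nat.one_le_two_pow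
  have hbig : 6 < Nat.card G := by
    rw [hG]
    nlinarith
  have hco3 : Nat.Coprime 3 p := (Nat.coprime_primes Nat.prime_three hpp).2 (Ne.symm hp3)
  have hco2 : Nat.Coprime 2 p := (Nat.coprime_primes Nat.prime_two hpp).2 (Ne.symm hp2)
  have hdvdp : p ∣ Nat.card G := by
    rw [hG]
    exact Dvd.dvd.mul_right (Dvd.intro_left _ rfl) _
  have hnsq : ¬ p ^ 2 ∣ Nat.card G := by
    intro h
    rw [hG, pow_two, show 3 * p * 2 ^ b = p * (3 * 2 ^ b) by ring] at h
    have h1 := Nat.dvd_of_mul_dvd_mul_left hpp.pos h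
    have h2 : Nat.Coprime p (3 * 2 ^ b) :=
      Nat.Coprime.mul_right hco3.symm (Nat.Coprime.pow_right _ hco2.symm)
    have h3 := Nat.Coprime.eq_one_of_dvd h2 h1
    omega
  -- the Sylow `p`-subgroup
  let P : Sylow p G := default
  have hPcard : Nat.card P = p := card_sylow_of_not_sq P hdvdp hnsq
  haveI : Nontrivial (P : Subgroup G) := by
    apply Finite.one_lt_card_iff_nontrivial.1
    change 1 < Nat.card P
    omega
  obtain ⟨⟨u, huP⟩, hune⟩ := exists_ne (1 : (P : Subgroup G))
  have hu1 : u ≠ 1 := fun h => hune (Subtype.ext h)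
  obtain ⟨hz, H, hL⟩ := exists_localData P hPcard huP hu1
  have hord := hL.ord
  -- no elements of order `3` normalize
  set N := normalizer (zpowers u : Set G) with hNdef
  have hN3 : ¬ 3 ∣ Nat.card N := by
    intro h3
    obtain ⟨y, hy⟩ := exists_prime_orderOf_dvd_card' (G := N) 3 h3
    have hy' : orderOf (y : G) = 3 := by
      rw [Subgroup.orderOf_coe]
      exact hy
    have hα3 : alphaG hL (y : G) ^ 3 = 1 := by
      rw [← alphaG_pow hL y.2]
      nth_rw 1 [← hy']
      rw [pow_orderOf_eq_one, alphaG_one]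
    have hαp : alphaG hL (y : G) ^ (2 ^ i) = 1 := by
      have h1 := ZMod.pow_card_sub_one_eq_one (alphaG_ne_zero hL y.2)
      rwa [show p - 1 = 2 ^ i by omega] at h1
    have hgcd : Nat.gcd 3 (2 ^ i) = 1 := Nat.Coprime.pow_right _ (by norm_num)
    have hα1 : alphaG hL (y : G) = 1 := by
      have h1 := pow_gcd_eq_one.2 ⟨hα3, hαp⟩
      rwa [hgcd, pow_one] at h1
    have hcomm := (alphaG_eq_one_iff hL y.2).1 hα1
    exact no_three hna hpp hp3 hG hord hy' hcomm.symm
  have huN : u ∈ N := Subgroup.le_normalizer (mem_zpowers u)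
  have hpN : p ∣ Nat.card N := by
    rw [← hord]
    exact Subgroup.orderOf_dvd_natCard N huN
  obtain ⟨d, hd⟩ := hpN
  have hNG : Nat.card N ∣ Nat.card G := Subgroup.card_subgroup_dvd_card N
  rw [hd, hG, show 3 * p * 2 ^ b = p * (3 * 2 ^ b) by ring] at hNG
  have h1 := Nat.dvd_of_mul_dvd_mul_left hpp.pos hNG
  have h3d : Nat.Coprime d 3 := by
    apply Nat.Coprime.symm
    apply (Nat.Prime.coprime_iff_not_dvd Nat.prime_three).2
    intro h3
    exact hN3 (hd ▸ Dvd.dvd.mul_left h3 p)
  have h2 := h3d.dvd_of_dvd_mul_left h1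
  obtain ⟨c, -, hc⟩ := (Nat.dvd_prime_pow Nat.prime_two).1 h2
  rw [hc] at hd
  obtain ⟨k, hk⟩ := index_of_card_normalizer hpp.pos hG hd
  have hN' : normalizer ((P : Subgroup G) : Set G) = N := by rw [← hz]
  have hdvd := dvd_of_index P (k := k) (by rw [hN']; exact hk)
  have hi2 : i = 2 := fermat_numeric hi (by rw [← hpe]; exact hdvd)
  subst hi2
  -- the Sylow `3`-subgroup
  let R : Sylow 3 G := default
  have h3G : 3 ∣ Nat.card G := by
    rw [hG]
    exact Dvd.dvd.mul_right (Dvd.intro _ rfl) _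
  have hnsq3 : ¬ 3 ^ 2 ∣ Nat.card G := by
    intro h
    rw [hG, pow_two, show 3 * p * 2 ^ b = 3 * (p * 2 ^ b) by ring] at h
    have h1 := Nat.dvd_of_mul_dvd_mul_left (by norm_num) h
    have h2 : Nat.Coprime 3 (p * 2 ^ b) :=
      Nat.Coprime.mul_right hco3 (Nat.Coprime.pow_right _ (by norm_num))
    have h3 := Nat.Coprime.eq_one_of_dvd h2 h1
    omega
  have hRcard : Nat.card R = 3 := card_sylow_of_not_sq R h3G hnsq3
  haveI : Nontrivial (R : Subgroup G) := by
    apply Finite.one_lt_card_iff_nontrivial.1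
    change 1 < Nat.card R
    omega
  obtain ⟨⟨y, hyR⟩, hyne⟩ := exists_ne (1 : (R : Subgroup G))
  have hy1 : y ≠ 1 := fun h => hyne (Subtype.ext h)
  obtain ⟨hzR, D, hD⟩ := exists_localData R hRcard hyR hy1
  have hy := hD.ord
  have hDtriv : ∀ d ∈ D, d = 1 := by
    intro d hd
    by_contra hd1
    obtain ⟨ℓ, k, hℓ, hw⟩ := exists_prime_order_power hd1
    have hwD : d ^ k ∈ D := D.pow_mem hd k
    have hwy := hD.comm _ hwD
    rcases prime_dvd_card (a := 1) hpp hℓ (by rw [hG, pow_one])
      (by rw [← hw]; exact orderOf_dvd_natCard _) with h | h | h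
    · subst h
      apply hD.cop
      rw [← hw]
      exact Subgroup.orderOf_dvd_natCard D hwD
    · rw [h] at hw
      exact no_three hna hpp hp3 hG hw hy hwy
    · rw [h] at hw
      set t := d ^ k with ht
      have htt : t * t = 1 := by
        have h7 := pow_orderOf_eq_one t
        rw [hw, pow_two] at h7
        exact h7
      have hLχ := Cfsg.Agent.Lib.Char.Basic.isCharacter_of_isIrrCharacter L.2
      obtain ⟨m, hm, hm2⟩ := inv_mod_four hna hLχ htt
      rw [hdL] at hm2
      have hcL := IsCharacter.charDegree_cast hLχ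
      rw [hdL] at hcL
      have hzv : (L : G → ℂ) t = (((4 : ℤ) - 4 * m : ℤ) : ℂ) := by
        rw [hm, ← hcL]
        push_cast
        norm_num
      have h3 := three_dvd_add_two hLχ (fun g hg => (hsing g hg).1) hy htt hwy hzv
      have hm0 : m = 0 := by omega
      have h5 : (L : G → ℂ) t = (L : G → ℂ) 1 := by
        rw [hm, hm0]
        simp
      have h6 := irr_faithful L hLne h5
      rw [h6, orderOf_one] at hw
      omega
  have hcen : ∀ c : G, c * y = y * c → c ∈ zpowers y := by
    intro c hc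
    obtain ⟨i', z, hzD, rfl⟩ := hD.exists_decomp hc
    rw [hDtriv z hzD, mul_one]
    exact XX_mem_zpowers i'
  refine conclusion_of_selfcent hbig (R : Subgroup G) hRcard ?_
  rw [← hzR]
  exact centralizer_zpowers_of_cen hcen

end Simple

end Cfsg.Agent.Lib.ThreePQ
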