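import Mathlib
import Cfsg.Agent.Lib.ThreePQ.Basic
import Cfsg.Agent.Lib.ThreePQ.Numeric
import Cfsg.Agent.Lib.Char.BrauerSCNum
import Cfsg.Agent.Lib.Char.Klein4
import Cfsg.Agent.Lib.Blocks.ClassIndep
import Cfsg.Agent.S0144
import Cfsg.Agent.S0948
import Cfsg.Agent.S0992
import Cfsg.Agent.S0202
import Cfsg.Agent.S0203
import Cfsg.Agent.S3278
import Cfsg.Agent.S4479

/-!
# Simple groups of order `4 p^a q^b`
-/

set_option autoImplicit false
set_option linter.unusedSectionVars false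
set_option linter.style.haveILetI false

namespace Cfsg.Agent.Lib.ThreePQ

open Cfsg Subgroup Module
open Cfsg.Agent.Lib.Char.Values Cfsg.Agent.Lib.DefectOne

universe u

variable {G : Type u} [Group G] [Finite G] [IsSimpleGroup G]

/-- A non-abelian simple group does not have order `r^x s^y`. -/
theorem two_primes_false (hna : ∃ a b : G, a * b ≠ b * a) {r s x y : ℕ} (hr : r.Prime) (hs : s.Prime)
    (h : Nat.card G = r ^ x * s ^ y) : False := by
  have h1 := Cfsg.Agent.S0144.result r s x y hr hs h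
  obtain ⟨a, b, hab⟩ := hna
  exact hab ((IsSimpleGroup.comm_iff_isSolvable (G := G)).2 h1 a b)

/-- The key computation: an element of odd order commuting with an involution. -/
theorem eq_one_of_odd_of_commute (hna : ∃ a b : G, a * b ≠ b * a) (θ : IrrCharacter G)
    (hdeg : charDegree (θ : G → ℂ) = 3) {z h : G} (hz : orderOf z = 2)
    (hne : (θ : G → ℂ) ≠ fun _ => 1)
    (hval : ∀ g : G, 2 ∣ orderOf g → (θ : G → ℂ) g = -1)
    (hc : h * z = z * h) (hodd : Odd (orderOf h)) : h = 1 := by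
  classical
  obtain ⟨χ, n, ρ, hirr, rfl⟩ := θ
  have hn : n = 3 := by
    have h1 : charDegree ρ.character = n :=
      IsCharacter.charDegree_eq ⟨n, ρ, rfl⟩ (by simp [Representation.char_one])
    rw [← hdeg]
    exact h1.symm
  subst hn
  haveI : Fact (Nat.Prime 2) := ⟨Nat.prime_two⟩
  let Γ : Subgroup G := centralizer ({z} : Set G)
  have hzΓ : z ∈ Γ := by
    rw [Subgroup.mem_centralizer_singleton_iff]
  have hhΓ : h ∈ Γ := by
    rw [Subgroup.mem_centralizer_singleton_iff]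
    exact hc
  let z' : Γ := ⟨z, hzΓ⟩
  let h' : Γ := ⟨h, hhΓ⟩
  have hord : orderOf z' = 2 := by
    rw [← Subgroup.orderOf_coe]
    exact hz
  have hnorm : ∀ g : Γ, g * z' * g⁻¹ ∈ zpowers z' := by
    intro g
    have h1 : g * z' = z' * g := by
      apply Subtype.ext
      exact (Subgroup.mem_centralizer_singleton_iff.1 g.2)
    rw [h1, mul_inv_cancel_right]
    exact mem_zpowers z'
  have hres : IsCharacter Γ (fun g : Γ => ρ.character (g : G)) :=
    Cfsg.Agent.Lib.Char.Basic.isCharacter_restrict (⟨3, ρ, rfl⟩ : IsCharacter G ρ.character) Γ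
  have hav := isCharacter_avg hord hnorm hres
  -- the average as a sum of two terms
  have hsum : ∀ g : Γ, ((2 : ℕ) : ℂ)⁻¹ * ∑ i : ZMod 2, ρ.character (((g * XX z' i : Γ)) : G) =
      (ρ.character (g : G) + ρ.character ((g : G) * z)) / 2 := by
    intro g
    have h0 : XX z' (0 : ZMod 2) = 1 := XX_zero z'
    have h1 : XX z' (1 : ZMod 2) = z' := XX_one hord
    have : ∑ i : ZMod 2, ρ.character (((g * XX z' i : Γ)) : G) =
        ρ.character (((g * XX z' (0 : ZMod 2) : Γ)) : G) + ρ.character (((g * XX z' (1 : ZMod 2) : Γ)) : G) :=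
      Fin.sum_univ_two _
    rw [this, h0, h1]
    simp only [mul_one, Subgroup.coe_mul]
    push_cast
    ring
  have hone : (fun g : Γ => ((2 : ℕ) : ℂ)⁻¹ * ∑ i : ZMod 2, ρ.character (((g * XX z' i : Γ)) : G)) 1 = 1 := by
    show ((2 : ℕ) : ℂ)⁻¹ * ∑ i : ZMod 2, ρ.character (((1 * XX z' i : Γ)) : G) = 1
    rw [hsum]
    have h1 : ρ.character ((1 : Γ) : G) = 3 := by
      simp [Representation.char_one]
    have h2 : ρ.character (((1 : Γ) : G) * z) = -1 := by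
      rw [Subgroup.coe_one, one_mul]
      exact hval z (by rw [hz])
    rw [h1, h2]
    norm_num
  obtain ⟨φ, hφ⟩ := Cfsg.Agent.Lib.Char.LinearChars.exists_hom_of_isCharacter_one hav hone
  set w : ℂ := ((φ h' : ℂˣ) : ℂ) with hw
  -- the values on powers of `h`
  have hpow : ∀ k : ℕ, ρ.character (h ^ k) = 2 * w ^ k + 1 := by
    intro k
    have h1 := congrFun hφ (h' ^ k)
    rw [hsum] at h1
    have h2 : ((h' ^ k : Γ) : G) = h ^ k := by simp [h']
    rw [h2] at h1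
    have h3 : 2 ∣ orderOf (h ^ k * z) := by
      have hcomm : Commute (h ^ k) z := (show Commute h z from hc).pow_left k
      have hco : Nat.Coprime (orderOf (h ^ k)) (orderOf z) := by
        rw [hz, Nat.coprime_two_right]
        exact hodd.of_dvd_nat (orderOf_pow_dvd k)
      rw [hcomm.orderOf_mul_eq_mul_orderOf_of_coprime hco, hz]
      exact dvd_mul_left 2 _
    have hv : ρ.character (h ^ k * z) = -1 := hval _ h3
    rw [hv] at h1
    have h4 : ((φ (h' ^ k) : ℂˣ) : ℂ) = w ^ k := by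
      rw [map_pow, Units.val_pow_eq_pow_val]
    rw [h4] at h1
    have h5 : ρ.character (h ^ k) = 2 * ((ρ.character (h ^ k) + -1) / 2) + 1 := by ring
    rw [h5, h1]
  -- the determinant
  have hdet := det_eq_one hna ρ h
  let A : Matrix (Fin 3) (Fin 3) ℂ := LinearMap.toMatrix' (ρ h)
  have hdetA : A.det = 1 := by
    have h1 := LinearMap.det_toMatrix' (ρ h)
    rw [← hdet, ← h1]
  have htr : ∀ k : ℕ, (A ^ k).trace = ρ.character (h ^ k) := by
    intro k
    have h1 : A ^ k = LinearMap.toMatrix' (ρ (h ^ k)) := by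
      rw [map_pow]
      show (LinearMap.toMatrix' (ρ h)) ^ k = _
      induction k with
      | zero =>
        simp only [pow_zero]
        exact (LinearMap.toMatrix'_one).symm
      | succ k ih =>
        rw [pow_succ, ih, pow_succ]
        exact (LinearMap.toMatrix'_mul _ _).symm
    rw [h1]
    show _ = LinearMap.trace ℂ _ (ρ (h ^ k))
    rw [LinearMap.trace_eq_matrix_trace ℂ (Pi.basisFun ℂ (Fin 3))]
    rfl
  have h6 := det_fin_three_trace A
  have t1 := htr 1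
  have t2 := htr 2
  have t3 := htr 3
  rw [pow_one, hpow 1] at t1
  rw [pow_two, hpow 2] at t2
  rw [pow_succ, pow_two, hpow 3] at t3
  rw [t1, t2, t3, hdetA] at h6
  have hw2 : w ^ 2 = 1 := by
    have : (6 : ℂ) * w ^ 2 = 6 := by
      linear_combination -h6
    have h60 : (6 : ℂ) ≠ 0 := by norm_num
    exact mul_left_cancel₀ h60 (by rw [this, mul_one])
  -- `w = 1`
  have hwn : w ^ orderOf h = 1 := by
    have h1 : h' ^ orderOf h = 1 := by
      apply Subtype.ext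
      simp [h', pow_orderOf_eq_one]
    have h2 : φ (h' ^ orderOf h) = 1 := by rw [h1, map_one]
    rw [map_pow] at h2
    have h3 : ((φ h' ^ orderOf h : ℂˣ) : ℂ) = 1 := by rw [h2]; rfl
    rw [Units.val_pow_eq_pow_val] at h3
    exact h3
  have hw1 : w = 1 := by
    obtain ⟨m, hm⟩ := hodd
    rw [hm, pow_succ, pow_mul, hw2, one_pow, one_mul] at hwn
    exact hwn
  have hfin : ρ.character h = ρ.character 1 := by
    have h1 := hpow 1
    rw [pow_one, pow_one, hw1] at h1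
    rw [h1]
    simp [Representation.char_one]
    norm_num
  exact irr_faithful ⟨ρ.character, 3, ρ, hirr, rfl⟩ hne hfin

/-- The arithmetic consequence of Brauer's order formula. -/
lemma pf_formula {p q N x₁ x₂ x₃ cJ cP y₁ y₂ y₃ : ℕ} (hN : PF p q N) (hN0 : N ≠ 0) (hcP : cP ≠ 0)
    (hy₁ : y₁ ≠ 0) (hy₂ : y₂ ≠ 0) (hy₃ : y₃ ≠ 0)
    (hd₁ : x₁ ∣ N) (hd₂ : x₂ ∣ N) (hd₃ : x₃ ∣ N) (hcJ : cJ ∣ N)
    (h : (N : ℚ) = 8 * (((x₁ : ℚ) * x₂ * x₃) / ((y₁ : ℚ) * y₂ * y₃)) * (cJ : ℚ) ^ 3 / (cP : ℚ) ^ 2) :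
    PF p q y₁ ∧ PF p q y₂ ∧ PF p q y₃ := by
  have hy₁' : (y₁ : ℚ) ≠ 0 := by exact_mod_cast hy₁
  have hy₂' : (y₂ : ℚ) ≠ 0 := by exact_mod_cast hy₂
  have hy₃' : (y₃ : ℚ) ≠ 0 := by exact_mod_cast hy₃
  have hcP' : (cP : ℚ) ≠ 0 := by exact_mod_cast hcP
  have h1 : (N : ℚ) * ((y₁ : ℚ) * y₂ * y₃) * (cP : ℚ) ^ 2 = 8 * ((x₁ : ℚ) * x₂ * x₃) * (cJ : ℚ) ^ 3 := by
    rw [h]
    field_simp
  have h2 : N * (y₁ * y₂ * y₃) * cP ^ 2 = 8 * (x₁ * x₂ * x₃) * cJ ^ 3 := by
    exact_mod_cast h1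
  have key : ∀ ℓ : ℕ, ℓ.Prime → ℓ ∣ y₁ * y₂ * y₃ → ℓ = 2 ∨ ℓ = p ∨ ℓ = q := by
    intro ℓ hℓ hd
    have h3 : ℓ ∣ 8 * (x₁ * x₂ * x₃) * cJ ^ 3 := by
      rw [← h2]
      exact Dvd.dvd.mul_right (Dvd.dvd.mul_left hd N) _
    rcases hℓ.dvd_mul.1 h3 with h4 | h4
    · rcases hℓ.dvd_mul.1 h4 with h5 | h5
      · left
        have h6 : ℓ ∣ 2 ^ 3 := by simpa using h5
        exact (Nat.prime_dvd_prime_iff_eq hℓ Nat.prime_two).1 (hℓ.dvd_of_dvd_pow h6)
      · rcases hℓ.dvd_mul.1 h5 with h6 | h6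
        · rcases hℓ.dvd_mul.1 h6 with h7 | h7
          · exact hN ℓ hℓ (h7.trans hd₁)
          · exact hN ℓ hℓ (h7.trans hd₂)
        · exact hN ℓ hℓ (h6.trans hd₃)
    · exact hN ℓ hℓ ((hℓ.dvd_of_dvd_pow h4).trans hcJ)
  refine ⟨fun ℓ hℓ hd => key ℓ hℓ ?_, fun ℓ hℓ hd => key ℓ hℓ ?_, fun ℓ hℓ hd => key ℓ hℓ ?_⟩
  · exact hd.trans ⟨y₂ * y₃, by ring⟩
  · exact hd.trans ⟨y₁ * y₃, by ring⟩
  · exact hd.trans ⟨y₁ * y₂, by ring⟩

/-- The theorem on simple groups of order `4 p^a q^b`. -/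
theorem part_A (hna : ∃ a b : G, a * b ≠ b * a) {p q a b : ℕ} (hp : p.Prime) (hq : q.Prime) (hpq : p ≠ q)
    (hG : Nat.card G = 4 * p ^ a * q ^ b) : Nonempty (G ≃* alternatingGroup (Fin 5)) := by
  classical
  letI : Fintype G := Fintype.ofFinite G
  have hp2 : p ≠ 2 := by
    rintro rfl
    exact two_primes_false hna Nat.prime_two hq (x := a + 2) (y := b) (by rw [hG]; ring)
  have hq2 : q ≠ 2 := by
    rintro rfl
    exact two_primes_false hna hp Nat.prime_two (x := a) (y := b + 2) (by rw [hG]; ring)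
  have hpodd : Odd p := hp.odd_of_ne_two hp2
  have hqodd : Odd q := hq.odd_of_ne_two hq2
  set g₀ := p ^ a * q ^ b with hg₀
  have hodd : Odd g₀ := hpodd.pow.mul hqodd.pow
  have hG' : Nat.card G = 4 * g₀ := by rw [hG, hg₀]; ring
  have hcomm : ¬ IsMulCommutative G := by
    intro h
    obtain ⟨x, y, hxy⟩ := hna
    exact hxy (h.is_comm.comm x y)
  have h2 : Even (Nat.card G) := by
    rw [hG']
    exact ⟨2 * g₀, by ring⟩
  have h8 : ¬ 8 ∣ Nat.card G := by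
    rw [hG']
    obtain ⟨k, hk⟩ := hodd
    rw [hk]
    omega
  have hPF : PF p q (Nat.card G) := by
    intro ℓ hℓ hd
    rw [hG] at hd
    rcases hℓ.dvd_mul.1 hd with h3 | h3
    · rcases hℓ.dvd_mul.1 h3 with h4 | h4
      · left
        have h6 : ℓ ∣ 2 ^ 2 := by simpa using h4
        exact (Nat.prime_dvd_prime_iff_eq hℓ Nat.prime_two).1 (hℓ.dvd_of_dvd_pow h6)
      · right; left
        exact (Nat.prime_dvd_prime_iff_eq hℓ hp).1 (hℓ.dvd_of_dvd_pow h4)
    · right; right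
      exact (Nat.prime_dvd_prime_iff_eq hℓ hq).1 (hℓ.dvd_of_dvd_pow h3)
  haveI : Fact (Nat.Prime 2) := ⟨Nat.prime_two⟩
  let P : Sylow 2 G := default
  obtain ⟨hP, -⟩ := Cfsg.Agent.S0992.result hcomm h2 h8 P
  have hPcard : Nat.card (P : Subgroup G) = 4 := IsKleinFour.card_four
  have hPexp : ∀ x ∈ (P : Subgroup G), x * x = 1 := by
    intro x hx
    have h3 : (⟨x, hx⟩ : (P : Subgroup G)) * ⟨x, hx⟩ = 1 := by
      have h4 := IsKleinFour.exponent_two (G := (P : Subgroup G))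
      have h5 : (⟨x, hx⟩ : (P : Subgroup G)) ^ Monoid.exponent (P : Subgroup G) = 1 :=
        Monoid.pow_exponent_eq_one _
      rw [h4, pow_two] at h5
      exact h5
    exact congrArg Subtype.val h3
  have hnotrivG : Nat.card G ≠ 4 := by
    intro h4
    obtain ⟨x, y, hxy⟩ := hna
    have h5 : (P : Subgroup G) = ⊤ := by
      apply Subgroup.eq_top_of_card_eq
      rw [hPcard, h4]
    have hx : x ∈ (P : Subgroup G) := by rw [h5]; trivial
    have hy : y ∈ (P : Subgroup G) := by rw [h5]; trivial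
    exact hxy (Cfsg.Agent.Lib.Char.Klein4.comm_of_exp hPexp hx hy)
  have hone : ∀ s t : G, orderOf s = 2 → orderOf t = 2 → IsConj s t := by
    have hnot3 : Nat.card {C : ConjClasses G // ∃ t : G, orderOf t = 2 ∧ ConjClasses.mk t = C} ≠ 3 := by
      intro h3
      obtain ⟨N, hN, hNc⟩ := (Cfsg.Agent.S0203.result P hP).1 h3
      have hcard := hNc.card_mul_card
      rcases (inferInstance : IsSimpleGroup G).eq_bot_or_eq_top_of_normal N hN with h | h
      · rw [h, Subgroup.card_bot, one_mul, hPcard] at hcard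
        exact hnotrivG hcard.symm
      · rw [h, Subgroup.card_top, hPcard] at hcard
        have hG0 : 0 < Nat.card G := Nat.card_pos
        omega
    have h1 := (Cfsg.Agent.S0202.result P hP).resolve_right hnot3
    intro s t hs ht
    have hsub := (Nat.card_eq_one_iff_unique.1 h1).1
    have h3 := hsub.elim (⟨ConjClasses.mk s, s, hs, rfl⟩ :
      {C : ConjClasses G // ∃ t : G, orderOf t = 2 ∧ ConjClasses.mk t = C}) ⟨ConjClasses.mk t, t, ht, rfl⟩
    exact ConjClasses.mk_eq_mk_iff_isConj.1 (congrArg Subtype.val h3)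
  have hKF : Cfsg.Agent.Lib.Char.Klein4.KF G := Cfsg.Agent.Lib.Char.Klein4.KF.of_sylow P hPcard hPexp hone
  obtain ⟨M, hM⟩ := Cfsg.Agent.Lib.Blocks.ClassIndep.exists_modular 2 Nat.prime_two
  obtain ⟨ζ₂, ζ₃, ζ₄, ε, hε, hζ₂, hζ₃, h23, h24, h34, hB, hzv, hd₂, hd₃, hd₄, hrel⟩ :=
    Cfsg.Agent.S0948.result M hM P hP hone
  -- an involution
  haveI : Nontrivial (P : Subgroup G) := by
    apply Finite.one_lt_card_iff_nontrivial.1
    omega
  obtain ⟨⟨J, hJ⟩, hJne⟩ := exists_ne (1 : (P : Subgroup G))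
  have hJ1 : J ≠ 1 := fun h => hJne (Subtype.ext h)
  have hJ2 : orderOf J = 2 := by
    apply orderOf_eq_prime _ hJ1
    rw [pow_two]
    exact hPexp J hJ
  have hζ₄ : (ζ₄ : G → ℂ) ≠ fun _ => 1 := by
    intro h
    have h3 := (hzv J hJ2).2.2
    rw [h] at h3
    norm_num at h3
  have hnc : ¬ ∃ N : Subgroup G, N.Normal ∧ Nat.card N = g₀ := by
    rintro ⟨N, hN, hNc⟩
    rcases (inferInstance : IsSimpleGroup G).eq_bot_or_eq_top_of_normal N hN with h | h
    · rw [h, Subgroup.card_bot] at hNc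
      apply hnotrivG
      rw [hG', ← hNc]
    · rw [h, Subgroup.card_top] at hNc
      have hG0 : 0 < Nat.card G := Nat.card_pos
      omega
  have hval : (ζ₂ : G → ℂ) J = ((1 : ℤ) : ℂ) ∧ (ζ₃ : G → ℂ) J = (ε : ℂ) ∧ (ζ₄ : G → ℂ) J = ((-1 : ℤ) : ℂ) := by
    obtain ⟨h3, h4, h5⟩ := hzv J hJ2
    refine ⟨by simpa using h3, h4, by simpa using h5⟩
  have hform := Cfsg.Agent.S4479.result M hM g₀ hodd hG' hnc P J hJ hJ2 ζ₂ ζ₃ ζ₄ 1 ε (-1) hB
    ⟨hζ₂, hζ₃, hζ₄, h23, h24, h34⟩ ⟨Or.inl rfl, hε, Or.inr rfl⟩ hval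
  set x₁ := charDegree (ζ₂ : G → ℂ) with hx₁
  set x₂ := charDegree (ζ₃ : G → ℂ) with hx₂
  set x₃ := charDegree (ζ₄ : G → ℂ) with hx₃
  have hc₂ : (x₁ : ℂ) = (ζ₂ : G → ℂ) 1 :=
    IsCharacter.charDegree_cast (Cfsg.Agent.Lib.Char.Basic.isCharacter_of_isIrrCharacter ζ₂.2)
  have hc₃ : (x₂ : ℂ) = (ζ₃ : G → ℂ) 1 :=
    IsCharacter.charDegree_cast (Cfsg.Agent.Lib.Char.Basic.isCharacter_of_isIrrCharacter ζ₃.2)
  have hc₄ : (x₃ : ℂ) = (ζ₄ : G → ℂ) 1 :=
    IsCharacter.charDegree_cast (Cfsg.Agent.Lib.Char.Basic.isCharacter_of_isIrrCharacter ζ₄.2)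
  have hdv₁ : x₁ ∣ Nat.card G := Cfsg.Agent.Lib.Char.BrauerSCNum.degree_dvd ζ₂ x₁ hc₂.symm
  have hdv₂ : x₂ ∣ Nat.card G := Cfsg.Agent.Lib.Char.BrauerSCNum.degree_dvd ζ₃ x₂ hc₃.symm
  have hdv₃ : x₃ ∣ Nat.card G := Cfsg.Agent.Lib.Char.BrauerSCNum.degree_dvd ζ₄ x₃ hc₄.symm
  have h2x₁ : 2 ≤ x₁ := two_le_degree hna ζ₂ hζ₂
  have h2x₂ : 2 ≤ x₂ := two_le_degree hna ζ₃ hζ₃
  have h2x₃ : 2 ≤ x₃ := two_le_degree hna ζ₄ hζ₄
  have hsumC := hrel 1 (by simp)
  rw [← hc₂, ← hc₃, ← hc₄] at hsumC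
  have hsumZ : (1 : ℤ) + x₁ + ε * x₂ - x₃ = 0 := by exact_mod_cast hsumC
  have hN0 : Nat.card G ≠ 0 := Nat.card_pos.ne'
  have hcJ : Nat.card (centralizer ({J} : Set G)) ∣ Nat.card G := Subgroup.card_subgroup_dvd_card _
  have hcP : Nat.card (centralizer ((P : Subgroup G) : Set G)) ≠ 0 := Nat.card_pos.ne'
  have hdeg3 : x₂ = 3 ∧ ε = -1 := by
    rcases hε with rfl | rfl
    · exfalso
      have hform' : (Nat.card G : ℚ) = 8 * (((x₁ : ℚ) * x₂ * x₃) / (((x₁ + 1 : ℕ) : ℚ) * ((x₂ + 1 : ℕ) : ℚ) * ((x₃ - 1 : ℕ) : ℚ))) *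
          (Nat.card (centralizer ({J} : Set G)) : ℚ) ^ 3 / (Nat.card (centralizer ((P : Subgroup G) : Set G)) : ℚ) ^ 2 := by
        rw [hform, Nat.cast_sub (by omega : 1 ≤ x₃)]
        push_cast
        ring
      obtain ⟨h3, h4, h5⟩ := pf_formula hPF hN0 hcP (by omega) (by omega) (by omega) hdv₁ hdv₂ hdv₃ hcJ hform'
      exact klein_plus hp hq hpq hp2 hq2 (by omega) (by omega) (by omega) (by omega) (by omega)
        (hPF.of_dvd hdv₁) h3 (hPF.of_dvd hdv₂) h4 (hPF.of_dvd hdv₃) h5 (by omega)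
    · have hform' : (Nat.card G : ℚ) = 8 * (((x₁ : ℚ) * x₂ * x₃) / (((x₁ + 1 : ℕ) : ℚ) * ((x₂ - 1 : ℕ) : ℚ) * ((x₃ - 1 : ℕ) : ℚ))) *
          (Nat.card (centralizer ({J} : Set G)) : ℚ) ^ 3 / (Nat.card (centralizer ((P : Subgroup G) : Set G)) : ℚ) ^ 2 := by
        rw [hform, Nat.cast_sub (by omega : 1 ≤ x₃), Nat.cast_sub (by omega : 1 ≤ x₂)]
        push_cast
        ring
      obtain ⟨h3, h4, h5⟩ := pf_formula hPF hN0 hcP (by omega) (by omega) (by omega) hdv₁ hdv₂ hdv₃ hcJ hform'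
      exact ⟨klein_minus hp hq hpq hp2 hq2 (by omega) (by omega) (by omega) (by omega)
        (hPF.of_dvd hdv₁) h3 (hPF.of_dvd hdv₂) h4 (hPF.of_dvd hdv₃) h5 (by omega), rfl⟩
  obtain ⟨hx3, rfl⟩ := hdeg3
  -- the values of `ζ₃`
  have hmem : ζ₃ ∈ Cfsg.principalBlock M G := by
    rw [hB]
    exact Or.inr (Or.inr (Or.inl rfl))
  have hvalθ : ∀ g : G, 2 ∣ orderOf g → (ζ₃ : G → ℂ) g = -1 := by
    intro g hg
    rw [Cfsg.Agent.Lib.Char.Klein4.apply_of_even hKF hM hJ2 hg hmem, (hzv J hJ2).2.1]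
    norm_num
  -- the centralizer of an involution is a `2`-group
  have hCp : IsPGroup 2 (centralizer ({J} : Set G)) := by
    rintro ⟨g, hg⟩
    have hg' : g * J = J * g := Subgroup.mem_centralizer_singleton_iff.1 hg
    have hord0 : orderOf g ≠ 0 := (orderOf_pos g).ne'
    obtain ⟨k, m, hm, hkm⟩ := Nat.exists_eq_two_pow_mul_odd hord0
    refine ⟨k, ?_⟩
    apply Subtype.ext
    have hy : orderOf (g ^ 2 ^ k) = m := by
      have h3 := orderOf_pow_orderOf_div hord0 (show m ∣ orderOf g from ⟨2 ^ k, by rw [hkm]; ring⟩)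
      have h4 : orderOf g / m = 2 ^ k := by
        rw [hkm]
        exact Nat.mul_div_cancel _ hm.pos
      rwa [h4] at h3
    have hy1 : g ^ 2 ^ k = 1 := by
      apply eq_one_of_odd_of_commute hna ζ₃ hx3 hJ2 hζ₃ hvalθ
      · exact ((show Commute g J from hg').pow_left _).eq
      · rw [hy]
        exact hm
    simpa using hy1
  have hle : (P : Subgroup G) ≤ centralizer ({J} : Set G) := by
    intro x hx
    rw [Subgroup.mem_centralizer_singleton_iff]
    exact Cfsg.Agent.Lib.Char.Klein4.comm_of_exp hPexp hx hJ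
  have hCeq : centralizer ({J} : Set G) = (P : Subgroup G) := P.is_maximal' hCp hle
  refine Cfsg.Agent.S3278.result J hJ2 (P : Subgroup G) hle hP ?_ ?_
  · rw [hCeq, Subgroup.relIndex_self]
    norm_num
  · rw [hCeq, Subgroup.subgroupOf_self]
    infer_instance

end Cfsg.Agent.Lib.ThreePQ
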