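import Mathlib
import Cfsg.Agent.Lib.ThreePQ.Fermat
import Cfsg.Agent.Lib.DefectOne.SelfCent

/-!
# The Mersenne branch: `p = 2^i - 1`.  Self-centralizing, and the elimination of `e = 6`
-/

set_option autoImplicit false
set_option linter.unusedSectionVars false
set_option linter.style.haveILetI false

namespace Cfsg.Agent.Lib.ThreePQ

open Cfsg Subgroup Module Finset
open Cfsg.Agent.Lib.Char.Values Cfsg.Agent.Lib.DefectOne

universe u

variable {G : Type u} [Group G] [Finite G] [IsSimpleGroup G]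

/-- In the Mersenne branch the Sylow `p`-subgroup is self-centralizing. -/
theorem mersenne_cen (hna : ∃ x y : G, x * y ≠ y * x) {p b : ℕ} [hp : Fact p.Prime]
    (hG : Nat.card G = 3 * p * 2 ^ b) (hp5 : 5 ≤ p) (L : IrrCharacter G)
    (hLne : (L : G → ℂ) ≠ fun _ => 1) (hdL : charDegree (L : G → ℂ) = p)
    (P : Sylow p G) {u : G} {H : Subgroup G} (hz : zpowers u = (P : Subgroup G)) (hL : LocalData p u H) :
    ∀ c : G, c * u = u * c → c ∈ zpowers u := by
  classical
  haveI hf3 : Fact (Nat.Prime 3) := ⟨Nat.prime_three⟩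
  have hpp := hp.out
  have hord := hL.ord
  have hp3 : p ≠ 3 := by omega
  have hp2 : p ≠ 2 := by omega
  have hHtriv : ∀ d ∈ H, d = 1 := by
    intro d hd
    by_contra hd1
    obtain ⟨ℓ, k, hℓ, hw⟩ := exists_prime_order_power hd1
    have hwH : d ^ k ∈ H := H.pow_mem hd k
    have hwu := hL.comm _ hwH
    rcases prime_dvd_card (a := 1) hpp hℓ (by rw [hG, pow_one])
      (by rw [← hw]; exact orderOf_dvd_natCard _) with h | h | h
    · rw [h] at hw
      exact no_three hna hpp hp3 hG hord hw hwu.symm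
    · rw [h] at hw
      apply hL.cop
      rw [← hw]
      exact Subgroup.orderOf_dvd_natCard H hwH
    · rw [h] at hw
      set t := d ^ k with ht
      have htt : t * t = 1 := by
        have h7 := pow_orderOf_eq_one t
        rw [hw, pow_two] at h7
        exact h7
      have hLχ := Cfsg.Agent.Lib.Char.Basic.isCharacter_of_isIrrCharacter L.2
      obtain ⟨m, hm, hm2⟩ := inv_mod_four hna hLχ htt
      rw [hdL] at hm2
      have hcL := IsCharacter.charDegree_cast hLχ
      rw [hdL] at hcL
      have hzv : (L : G → ℂ) t = (((p : ℤ) - 4 * m : ℤ) : ℂ) := by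
        rw [hm, ← hcL]
        push_cast
        norm_num
      have hcomm : Commute t u := hwu
      have hvan : ∀ i : ZMod p, i ≠ 0 → (L : G → ℂ) (t * XX u i) = ((0 : ℤ) : ℂ) := by
        intro i hi
        rw [Int.cast_zero]
        apply vanish_of_sylow_le hna P L hLne hdL
        · intro h
          have h1 : XX u i * t = XX u (0 : ZMod p) * 1 := by
            have h2 : XX u i * t = t * XX u i := ((hcomm.pow_right i.val).eq).symm
            rw [XX_zero, one_mul, h2]
            exact h
          exact hi (hL.decomp_unique hwH H.one_mem h1).1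
        · rw [← hz]
          intro c hc
          rw [Subgroup.mem_centralizer_singleton_iff]
          obtain ⟨k', rfl⟩ := Subgroup.mem_zpowers_iff.1 hc
          have h1 : Commute (u ^ k') t := (hcomm.zpow_right k').symm
          have h2 : Commute (u ^ k') (XX u i) := by
            unfold XX
            exact ((Commute.refl u).zpow_left k').pow_right _
          exact (h1.mul_right h2).eq
      have hd := avg_dvd hLχ hord hwu hzv hvan
      rw [mul_zero, add_zero] at hd
      have hpm : (p : ℤ) ∣ 4 * m := by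
        have h1 : (4 : ℤ) * m = (p : ℤ) - ((p : ℤ) - 4 * m) := by ring
        rw [h1]
        exact dvd_sub (dvd_refl _) hd
      have hpm' : p ∣ 4 * m := by exact_mod_cast hpm
      have hcop : Nat.Coprime p 4 := by
        have : (4 : ℕ) = 2 ^ 2 := by norm_num
        rw [this]
        exact Nat.Coprime.pow_right _ ((Nat.coprime_primes hpp Nat.prime_two).2 hp2)
      have hpm2 : p ∣ m := hcop.dvd_of_dvd_mul_left hpm'
      have hm0 : m = 0 := by
        by_contra hm0
        have := Nat.le_of_dvd (by omega) hpm2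
        omega
      have h5 : (L : G → ℂ) t = (L : G → ℂ) 1 := by
        rw [hm, hm0]
        simp
      have h6 := irr_faithful L hLne h5
      rw [h6, orderOf_one] at hw
      omega
  intro c hc
  obtain ⟨i', z, hzH, rfl⟩ := hL.exists_decomp hc
  rw [hHtriv z hzH, mul_one]
  exact XX_mem_zpowers i'

/-- Elimination of `e = 6`. -/
theorem no_six (hna : ∃ x y : G, x * y ≠ y * x) {p b i : ℕ} [hp : Fact p.Prime] [Fintype G]
    (hG : Nat.card G = 3 * p * 2 ^ b) (hi : 3 ≤ i) (hpe : p + 1 = 2 ^ i) (L : IrrCharacter G)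
    (hLne : (L : G → ℂ) ≠ fun _ => 1)
    (hsing : ∀ g, 3 ∣ orderOf g → (L : G → ℂ) g = 1) (hdL : charDegree (L : G → ℂ) = p)
    (P : Sylow p G) {u : G} {H : Subgroup G} (hz : zpowers u = (P : Subgroup G)) (hL : LocalData p u H)
    (hcen : ∀ c : G, c * u = u * c → c ∈ zpowers u)
    (hN : Nat.card (normalizer (zpowers u : Set G)) = p * 6) (hsix : 6 ∣ p - 1) : False := by
  classical
  haveI hf3 : Fact (Nat.Prime 3) := ⟨Nat.prime_three⟩
  have hpp := hp.out
  have hord := hL.ord
  have h8i : 8 ≤ 2 ^ i := by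
    calc 8 = 2 ^ 3 := by norm_num
      _ ≤ 2 ^ i := Nat.pow_le_pow_right (by norm_num) hi
  have hp7 : 7 ≤ p := by omega
  have hp2 : p ≠ 2 := by omega
  have hmod4 : (p + 1) % 4 = 0 := by
    obtain ⟨k, rfl⟩ : ∃ k, i = k + 3 := ⟨i - 3, by omega⟩
    rw [hpe, pow_add]
    omega
  -- the inertia group
  set N := normalizer (zpowers u : Set G) with hNdef
  obtain ⟨A, e, t, he0, het, hAc, hA, hrel, hNA, hAN, -⟩ := exists_inertia hL N le_rfl
    (fun c hc => mem_normalizer_of_comm hL hc)
  have he6 : e = 6 := by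
    rw [centralizer_zpowers_of_cen hcen] at hrel
    have hle2 : zpowers u ≤ N := Subgroup.le_normalizer
    have h2 := Subgroup.card_mul_index ((zpowers u).subgroupOf N)
    have h3 : Nat.card ((zpowers u).subgroupOf N) = Nat.card (zpowers u) :=
      Nat.card_congr (Subgroup.subgroupOfEquivOfLe hle2).toEquiv
    have h4 : ((zpowers u).subgroupOf N).index = e := hrel
    rw [h3, h4, Nat.card_zpowers, hord, hN] at h2
    exact Nat.eq_of_mul_eq_mul_left hpp.pos h2
  subst he6
  -- a residue of order `6`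
  obtain ⟨a₀, ha₀⟩ : ∃ a₀ : (ZMod p)ˣ, orderOf a₀ = 6 := by
    obtain ⟨g₀, hg₀⟩ := IsCyclic.exists_ofOrder_eq_natCard (α := (ZMod p)ˣ)
    have hc : Nat.card (ZMod p)ˣ = p - 1 := by
      rw [Nat.card_eq_fintype_card, ZMod.card_units]
    rw [hc] at hg₀
    refine ⟨g₀ ^ (orderOf g₀ / 6), orderOf_pow_orderOf_div ?_ ?_⟩
    · rw [hg₀]
      omega
    · rw [hg₀]
      exact hsix
  set α₀ : ZMod p := (a₀ : ZMod p) with hα₀
  have hval6 : α₀ ^ 6 = 1 := by
    have h1 : a₀ ^ 6 = 1 := by
      rw [← ha₀]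
      exact pow_orderOf_eq_one a₀
    have h2 := congrArg (fun z : (ZMod p)ˣ => (z : ZMod p)) h1
    simpa using h2
  have hval_ne : ∀ k, 0 < k → k < 6 → α₀ ^ k ≠ 1 := by
    intro k hk0 hk6 h
    have h1 : a₀ ^ k = 1 := by
      apply Units.ext
      simpa using h
    exact (pow_ne_one_of_lt_orderOf hk0.ne' (by rw [ha₀]; exact hk6)) h1
  obtain ⟨g, hgN, hgα⟩ := hAN α₀ ((hA α₀).2 hval6)
  have hαpow : ∀ k, alphaG hL (g ^ k) = α₀ ^ k := by
    intro k
    rw [alphaG_pow hL hgN, hgα]
  -- `g^6 = 1`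
  have hg6 : g ^ 6 = 1 := by
    by_contra hne
    have hc : g ^ 6 * u = u * g ^ 6 := by
      apply (alphaG_eq_one_iff hL (Subgroup.pow_mem _ hgN 6)).1
      rw [hαpow, hval6]
    obtain ⟨j, hj⟩ := exists_XX_of_mem hord (hcen _ hc)
    have hj0 : j ≠ 0 := by
      rintro rfl
      rw [XX_zero] at hj
      exact hne hj
    have hupow : u = (g ^ 6) ^ (j⁻¹).val := by
      rw [hj, ← XX_mul_val hord, inv_mul_cancel₀ hj0, XX_one hord]
    have hgu : g * u = u * g := by
      have h1 : Commute g (g ^ 6) := (Commute.refl g).pow_right 6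
      have h2 := h1.pow_right (j⁻¹).val
      rw [← hupow] at h2
      exact h2
    have h1 := (alphaG_eq_one_iff hL hgN).2 hgu
    rw [hgα] at h1
    have h2 := hval_ne 1 (by norm_num) (by norm_num)
    rw [pow_one] at h2
    exact h2 h1
  set w := g ^ 3 with hw
  set y := g ^ 2 with hy
  have hww : w * w = 1 := by
    rw [hw, ← pow_add]
    exact hg6
  have hαw : alphaG hL w = -1 := by
    rw [hw, hαpow]
    have h1 : (α₀ ^ 3) ^ 2 = 1 := by
      rw [← pow_mul]
      exact hval6
    rw [pow_two] at h1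
    rcases mul_self_eq_one_iff.1 h1 with h2 | h2
    · exact absurd h2 (hval_ne 3 (by norm_num) (by norm_num))
    · exact h2
  have hwN : w ∈ N := Subgroup.pow_mem _ hgN 3
  have hwu : w * u * w⁻¹ = XX u (-1 : ZMod p) := by
    rw [← hαw]
    exact alphaG_spec hL hwN
  have hyord : orderOf y = 3 := by
    apply orderOf_eq_prime
    · rw [hy, ← pow_mul]
      exact hg6
    · intro h
      have h1 := hαpow 2
      rw [← hy, h, alphaG_one] at h1
      exact hval_ne 2 (by norm_num) (by norm_num) h1.symm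
  have hwy : w * y = y * w := by
    rw [hw, hy, ← pow_add, ← pow_add, add_comm]
  have hLχ := Cfsg.Agent.Lib.Char.Basic.isCharacter_of_isIrrCharacter L.2
  obtain ⟨m, hm, hm2⟩ := inv_mod_four hna hLχ hww
  rw [hdL] at hm2
  have hcL := IsCharacter.charDegree_cast hLχ
  rw [hdL] at hcL
  have hzv : (L : G → ℂ) w = (((p : ℤ) - 4 * m : ℤ) : ℂ) := by
    rw [hm, ← hcL]
    push_cast
    norm_num
  have h3 := three_dvd_add_two hLχ hsing hyord hww hwy hzv
  -- the average over `⟨u⟩`
  have hclass : ∀ c g : G, (L : G → ℂ) (c * g * c⁻¹) = (L : G → ℂ) g :=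
    fun c g => Cfsg.Agent.Lib.Char.Basic.isClassFunction_of_isCharacter hLχ g c
  have hwinv : w⁻¹ = w := by
    rw [inv_eq_iff_mul_eq_one]
    exact hww
  have hconj : ∀ i : ZMod p, (L : G → ℂ) (w * XX u i) = (L : G → ℂ) w := by
    intro i
    have h2p : (2 : ZMod p) ≠ 0 := by
      intro h
      have h1 : ((2 : ℕ) : ZMod p) = 0 := by exact_mod_cast h
      have h4 := (ZMod.natCast_eq_zero_iff 2 p).1 h1
      have h5 := (Nat.prime_dvd_prime_iff_eq hpp Nat.prime_two).1 h4
      exact hp2 h5
    set j : ZMod p := i * 2⁻¹ with hj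
    have hjj : j + j = i := by
      rw [hj]
      field_simp
      ring
    have h1 : w * XX u j * w = XX u (-j) := by
      have h4 := hL.conj_XX hwu j
      rw [hwinv] at h4
      rw [h4, neg_one_mul]
    have h2 : XX u (-j) * w * (XX u (-j))⁻¹ = w * XX u i := by
      have h5 : (XX u (-j))⁻¹ = XX u j := by
        rw [inv_eq_iff_mul_eq_one, ← XX_add hord, neg_add_cancel, XX_zero]
      rw [h5, ← h1, ← hjj, XX_add hord]
      have h6 : w * XX u j * w * w * XX u j = w * XX u j * (w * w) * XX u j := by group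
      rw [h6, hww, mul_one, mul_assoc]
    rw [← h2, hclass]
  have hval0 : ∀ i : ZMod p, i ≠ 0 → (L : G → ℂ) (XX u i) = 0 := by
    intro i hi
    apply vanish_of_sylow_le hna P L hLne hdL
    · intro h
      apply hi
      have : XX u i = XX u (0 : ZMod p) := by rw [h, XX_zero]
      exact XX_inj hord this
    · rw [← hz]
      intro c hc
      rw [Subgroup.mem_centralizer_singleton_iff]
      obtain ⟨k', rfl⟩ := Subgroup.mem_zpowers_iff.1 hc
      unfold XX
      exact (((Commute.refl u).zpow_left k').pow_right _).eq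
  -- the restriction to `N`
  let u' : N := ⟨u, Subgroup.le_normalizer (mem_zpowers u)⟩
  have hord' : orderOf u' = p := by
    rw [← Subgroup.orderOf_coe]
    exact hord
  have hnorm : ∀ c : N, c * u' * c⁻¹ ∈ zpowers u' := by
    intro c
    obtain ⟨j, hj⟩ := hL.exists_alpha c.2
    have h1 : c * u' * c⁻¹ = XX u' j := by
      apply Subtype.ext
      simpa [XX, u'] using hj
    rw [h1]
    exact XX_mem_zpowers j
  have hres := Cfsg.Agent.Lib.Char.Basic.isCharacter_restrict hLχ N
  have hκ := isCharacter_avg hord' hnorm hres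
  have hnorm_le := IsCharacter.norm_le hκ (⟨w, hwN⟩ : N)
  have hXX' : ∀ (c : N) (j : ZMod p), (((c * XX u' j : N)) : G) = (c : G) * XX u j := by
    intro c j
    simp [XX, u']
  haveI : NeZero p := ⟨hpp.ne_zero⟩
  letI : Fintype (ZMod p) := ZMod.fintype p
  have hp0 : (p : ℂ) ≠ 0 := by exact_mod_cast hpp.ne_zero
  have hκw : (p : ℂ)⁻¹ * ∑ j : ZMod p, (L : G → ℂ) (((⟨w, hwN⟩ * XX u' j : N)) : G) = (L : G → ℂ) w := by
    simp_rw [hXX']
    simp only [hconj]
    rw [Finset.sum_const, Finset.card_univ, ZMod.card, nsmul_eq_mul]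
    field_simp
  have hκ1 : (p : ℂ)⁻¹ * ∑ j : ZMod p, (L : G → ℂ) (((1 * XX u' j : N)) : G) = 1 := by
    simp_rw [hXX']
    rw [← Finset.add_sum_erase _ _ (Finset.mem_univ (0 : ZMod p))]
    rw [Finset.sum_eq_zero (fun j hj => by
      rw [Subgroup.coe_one, one_mul]
      exact hval0 j (Finset.ne_of_mem_erase hj))]
    rw [add_zero, XX_zero, Subgroup.coe_one, one_mul, ← hcL]
    field_simp
  rw [hκw, hκ1, norm_one, hzv, Complex.norm_intCast] at hnorm_le
  have h4 : |(p : ℤ) - 4 * m| ≤ 1 := by exact_mod_cast hnorm_le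
  rw [abs_le] at h4
  omega

end Cfsg.Agent.Lib.ThreePQ
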