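import Mathlib
import Cfsg.Agent.Lib.ThreePQ.Mersenne1
import Cfsg.Agent.S4503
import Cfsg.Agent.S4504

/-!
# The Mersenne branch: the case `e = 3`, and the assembly
-/

set_option autoImplicit false
set_option linter.unusedSectionVars false
set_option linter.style.haveILetI false

namespace Cfsg.Agent.Lib.ThreePQ

open Cfsg Subgroup Module Finset
open Cfsg.Agent.Lib.Char.Values Cfsg.Agent.Lib.DefectOne

universe u

/-- Sums over a set with three identified elements. -/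
lemma sum_three {α R : Type*} [DecidableEq α] [AddCommMonoid R] {X : Finset α} {a b c : α} (ha : a ∈ X)
    (hb : b ∈ X) (hba : b ≠ a) (h : (X.erase a).erase b = {c}) (f : α → R) :
    ∑ χ ∈ X, f χ = f a + (f b + f c) := by
  rw [← add_sum_erase X f ha, ← add_sum_erase _ f (mem_erase.2 ⟨hba, hb⟩), h, sum_singleton]

lemma no_deg_Y_one {p m : ℕ} {ε : ℤ} (hp7 : 7 ≤ p) (hε : ε = 1 ∨ ε = -1)
    (h : (p : ℤ) + 1 = (p : ℤ) * m + ε * 3) : False := by
  have h0 : m = 0 ∨ m = 1 ∨ 2 ≤ m := by omega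
  rcases h0 with rfl | rfl | h0
  · rcases hε with rfl | rfl <;> push_cast at h <;> omega
  · rcases hε with rfl | rfl <;> push_cast at h <;> omega
  · have h1 : (p : ℤ) * 2 ≤ (p : ℤ) * m :=
      mul_le_mul_of_nonneg_left (by exact_mod_cast h0) (by positivity)
    rcases hε with rfl | rfl <;> omega

lemma no_deg_Y_zero {p m : ℕ} {ε : ℤ} (hp7 : 7 ≤ p) (hε : ε = 1 ∨ ε = -1)
    (h : (p : ℤ) = (p : ℤ) * m + ε * 3) : False := by
  have h0 : m = 0 ∨ m = 1 ∨ 2 ≤ m := by omega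
  rcases h0 with rfl | rfl | h0
  · rcases hε with rfl | rfl <;> push_cast at h <;> omega
  · rcases hε with rfl | rfl <;> push_cast at h <;> omega
  · have h1 : (p : ℤ) * 2 ≤ (p : ℤ) * m :=
      mul_le_mul_of_nonneg_left (by exact_mod_cast h0) (by positivity)
    rcases hε with rfl | rfl <;> omega

lemma delta_of_deg_succ {p : ℕ} {δ : ℤ} (hp7 : 7 ≤ p) (hδ : δ = 1 ∨ δ = -1)
    (h : (p : ℤ) + 1 ≡ δ [ZMOD p]) : δ = 1 := by
  rcases hδ with rfl | rfl
  · rfl
  · exfalso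
    have h1 := Int.modEq_iff_dvd.1 h
    have h2 : (p : ℤ) ∣ 2 := by
      have h3 : (2 : ℤ) = - (-1 - ((p : ℤ) + 1)) - (p : ℤ) := by ring
      rw [h3]
      exact dvd_sub (dvd_neg.2 h1) (dvd_refl _)
    have h3 := Int.le_of_dvd (by norm_num) h2
    omega

lemma not_deg_zero {p : ℕ} {δ : ℤ} (hp7 : 7 ≤ p) (hδ : δ = 1 ∨ δ = -1)
    (h : (p : ℤ) ≡ δ [ZMOD p]) : False := by
  have h1 := Int.modEq_iff_dvd.1 h
  have h2 : (p : ℤ) ∣ δ := by
    have h3 : δ = (δ - (p : ℤ)) + (p : ℤ) := by ring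
    rw [h3]
    exact dvd_add h1 (dvd_refl _)
  rcases hδ with rfl | rfl
  · have h3 := Int.le_of_dvd (by norm_num) h2
    omega
  · have h3 := Int.le_of_dvd (by norm_num) ((dvd_neg).2 h2)
    omega

/-- The double counting identity. -/
theorem sum_coef {G : Type u} [Group G] [Fintype G] [Fintype (IrrCharacter G)] (K : Subgroup G) [Fintype K]
    (a : IrrCharacter G → ℕ) (ha : ∀ χ : IrrCharacter G, ∑ h : K, (χ : G → ℂ) h = (Nat.card K : ℂ) * a χ) :
    (∑ χ : IrrCharacter G, charDegree (χ : G → ℂ) * a χ) * Nat.card K = Nat.card G := by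
  classical
  have h1 : ((∑ χ : IrrCharacter G, charDegree (χ : G → ℂ) * a χ : ℕ) : ℂ) * (Nat.card K : ℂ) = (Nat.card G : ℂ) := by
    push_cast
    rw [Finset.sum_mul]
    have h2 : ∀ χ : IrrCharacter G, (charDegree (χ : G → ℂ) : ℂ) * (a χ : ℂ) * (Nat.card K : ℂ) =
        ∑ h : K, (χ : G → ℂ) 1 * (χ : G → ℂ) h := by
      intro χ
      rw [← Finset.mul_sum, ha χ,
        ← IsCharacter.charDegree_cast (Cfsg.Agent.Lib.Char.Basic.isCharacter_of_isIrrCharacter χ.2)]
      ring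
    rw [Finset.sum_congr rfl (fun χ _ => h2 χ), Finset.sum_comm]
    have h3 : ∀ h : K, ∑ χ : IrrCharacter G, (χ : G → ℂ) 1 * (χ : G → ℂ) h =
        if h = 1 then (Nat.card G : ℂ) else 0 := by
      intro h
      rw [Cfsg.Agent.Lib.Char.Burnside2.sum_degree_mul_character]
      by_cases h1 : h = 1
      · simp [h1]
      · have h4 : (h : G) ≠ 1 := fun h5 => h1 (Subtype.ext h5)
        simp [h1, h4]
    rw [Finset.sum_congr rfl (fun h _ => h3 h)]
    simp
  exact_mod_cast h1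

variable {G : Type u} [Group G] [Finite G] [IsSimpleGroup G]

open Cfsg.Agent.Lib.Blocks.PrimeDegs
open Cfsg.Agent.Lib.Blocks.Principal

/-- A faithful irreducible character of degree `3` and a prime `p`. -/
theorem psl_of_degree_three (hna : ∃ x y : G, x * y ≠ y * x) {p b : ℕ} [hp : Fact p.Prime]
    (hG : Nat.card G = 3 * p * 2 ^ b) (hp7 : 7 ≤ p) (θ : IrrCharacter G)
    (hdeg : charDegree (θ : G → ℂ) = 3) : Nonempty (G ≃* Matrix.ProjectiveSpecialLinearGroup (Fin 2) (ZMod 7)) := by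
  classical
  have hpp := hp.out
  have hp3 : p ≠ 3 := by omega
  have hp2 : p ≠ 2 := by omega
  have hco3 : Nat.Coprime 3 p := (Nat.coprime_primes Nat.prime_three hpp).2 (Ne.symm hp3)
  have hco2 : Nat.Coprime 2 p := (Nat.coprime_primes Nat.prime_two hpp).2 (Ne.symm hp2)
  have hdvdp : p ∣ Nat.card G := by
    rw [hG]
    exact Dvd.dvd.mul_right (Dvd.intro_left _ rfl) _
  have hnsq : ¬ p ^ 2 ∣ Nat.card G := by
    intro h
    rw [hG, pow_two, show 3 * p * 2 ^ b = p * (3 * 2 ^ b) by ring] at h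
    have h1 := Nat.dvd_of_mul_dvd_mul_left hpp.pos h
    have h2 : Nat.Coprime p (3 * 2 ^ b) :=
      Nat.Coprime.mul_right hco3.symm (Nat.Coprime.pow_right _ hco2.symm)
    have h3 := Nat.Coprime.eq_one_of_dvd h2 h1
    omega
  have hnn : ∀ H : Subgroup G, H.Normal → Nat.card H ≠ p := by
    intro H hH h
    rcases (inferInstance : IsSimpleGroup G).eq_bot_or_eq_top_of_normal H hH with rfl | rfl
    · rw [Subgroup.card_bot] at h
      omega
    · rw [Subgroup.card_top, hG] at h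
      have h2b : 1 ≤ 2 ^ b := Nat.one_le_two_pow
      nlinarith
  have hχ := Cfsg.Agent.Lib.Char.Basic.isCharacter_of_isIrrCharacter θ.2
  have hne : (θ : G → ℂ) ≠ fun _ => 1 := by
    intro h
    have h1 := IsCharacter.charDegree_cast hχ
    rw [hdeg, h] at h1
    norm_num at h1
  have hfaith : ∀ g : G, (θ : G → ℂ) g = (θ : G → ℂ) 1 → g = 1 := fun g h => irr_faithful θ hne h
  have h1 := Cfsg.Agent.S4503.result p hpp hdvdp hnsq hnn (θ : G → ℂ) hχ hfaith
  rw [hdeg] at h1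
  have hp7' : p = 7 := by omega
  subst hp7'
  obtain ⟨e⟩ := Cfsg.Agent.S4504.result 7 hpp hdvdp hnsq hnn (θ : G → ℂ) hχ hfaith (by rw [hdeg])
  exact ⟨(QuotientGroup.quotientBot (G := G)).symm.trans
    ((QuotientGroup.quotientMulEquivOfEq (center_eq_bot hna).symm).trans e)⟩

/-- The case `e = 3`. -/
theorem case_three (hna : ∃ x y : G, x * y ≠ y * x) {p b i : ℕ} [hp : Fact p.Prime] [Fintype G]
    (hG : Nat.card G = 3 * p * 2 ^ b) (hi : 3 ≤ i) (hpe : p + 1 = 2 ^ i) (L U : IrrCharacter G)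
    (hLne : (L : G → ℂ) ≠ fun _ => 1) (hUne : (U : G → ℂ) ≠ fun _ => 1)
    (hreg : ∀ g, ¬ 3 ∣ orderOf g → (U : G → ℂ) g = (L : G → ℂ) g + 1)
    (hdL : charDegree (L : G → ℂ) = p) (hdU : charDegree (U : G → ℂ) = 2 ^ i)
    (P : Sylow p G) {u : G} {H : Subgroup G} (hz : zpowers u = (P : Subgroup G)) (hL : LocalData p u H)
    {ζ : ℂ} {t : ℕ} {X Y : Finset (IrrCharacter G)} {δ : IrrCharacter G → ℤ} {ε : ℤ} {b' : IrrCharacter G → ZMod p}
    (hT : SCTable u ζ 3 t X Y δ ε b') :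
    Nonempty (G ≃* Matrix.ProjectiveSpecialLinearGroup (Fin 2) (ZMod 7)) := by
  classical
  letI : Fintype (IrrCharacter G) := Fintype.ofFinite _
  have hpp := hp.out
  have hord := hL.ord
  have h8i : 8 ≤ 2 ^ i := by
    calc 8 = 2 ^ 3 := by norm_num
      _ ≤ 2 ^ i := Nat.pow_le_pow_right (by norm_num) hi
  have hp7 : 7 ≤ p := by omega
  have hp3 : p ≠ 3 := by omega
  have hp2 : p ≠ 2 := by omega
  have ht : p - 1 = 3 * t := hT.het
  have ht2 : 1 < t := by omega
  obtain ⟨h1X, hδ1⟩ := hT.triv ht2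
  set one : IrrCharacter G := trivChar G with hone
  have honev : ∀ g, (one : G → ℂ) g = 1 := fun g => rfl
  have hLχ := Cfsg.Agent.Lib.Char.Basic.isCharacter_of_isIrrCharacter L.2
  have hUχ := Cfsg.Agent.Lib.Char.Basic.isCharacter_of_isIrrCharacter U.2
  have hdU' : charDegree (U : G → ℂ) = p + 1 := by rw [hdU, hpe]
  have hcL := IsCharacter.charDegree_cast hLχ
  have hcU := IsCharacter.charDegree_cast hUχ
  rw [hdL] at hcL
  rw [hdU'] at hcU
  have hu1 : u ≠ 1 := by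
    intro h
    rw [h, orderOf_one] at hord
    omega
  have hL0 : (L : G → ℂ) u = 0 := by
    apply vanish_of_sylow_le hna P L hLne hdL hu1
    rw [← hz]
    intro c hc
    rw [Subgroup.mem_centralizer_singleton_iff]
    obtain ⟨k', rfl⟩ := Subgroup.mem_zpowers_iff.1 hc
    exact ((Commute.refl u).zpow_left k').eq
  have h3p : ¬ 3 ∣ p := fun h => hp3 ((Nat.prime_dvd_prime_iff_eq Nat.prime_three hpp).1 h).symm
  have hU1 : (U : G → ℂ) u = 1 := by
    rw [hreg u (by rwa [hord]), hL0, zero_add]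
  have hUX : U ∈ X := by
    have hUin : U ∈ X ∪ Y := by
      by_contra hn
      have h1 := hT.out U hn 1 one_ne_zero
      rw [XX_one hord, hU1] at h1
      norm_num at h1
    rcases mem_union.1 hUin with h | h
    · exact h
    · exfalso
      obtain ⟨m, hm, -⟩ := hT.degY U h
      rw [hdU'] at hm
      push_cast at hm
      exact no_deg_Y_one hp7 hT.sign hm
  have hδU : δ U = 1 := by
    apply delta_of_deg_succ hp7 (hT.signX U hUX)
    have h1 := hT.degX U hUX
    rw [hdU'] at h1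
    push_cast at h1
    exact h1
  have hLnX : L ∉ X := by
    intro hLX
    have h1 := hT.degX L hLX
    rw [hdL] at h1
    exact not_deg_zero hp7 (hT.signX L hLX) h1
  have hLnY : L ∉ Y := by
    intro hLY
    obtain ⟨m, hm, -⟩ := hT.degY L hLY
    rw [hdL] at hm
    push_cast at hm
    exact no_deg_Y_zero hp7 hT.sign hm
  have hne_of : ∀ χ : IrrCharacter G, χ ≠ one → (χ : G → ℂ) ≠ fun _ => 1 := by
    intro χ hχ h
    exact hχ (Subtype.ext h)
  have hUone : U ≠ one := fun h => hUne (by rw [h]; rfl)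
  have hLone : L ≠ one := fun h => hLne (by rw [h]; rfl)
  have hcard : ((X.erase one).erase U).card = 1 := by
    rw [card_erase_of_mem (mem_erase.2 ⟨hUone, hUX⟩), card_erase_of_mem h1X, hT.cardX]
  obtain ⟨χ₃, hχ₃⟩ := card_eq_one.1 hcard
  have hχ₃mem : χ₃ ∈ (X.erase one).erase U := by
    rw [hχ₃]
    simp
  have hχ₃X : χ₃ ∈ X := mem_of_mem_erase (mem_of_mem_erase hχ₃mem)
  have hχ₃one : χ₃ ≠ one := ne_of_mem_erase (mem_of_mem_erase hχ₃mem)
  have hd2 : 2 ≤ charDegree (χ₃ : G → ℂ) := two_le_degree hna χ₃ (hne_of χ₃ hχ₃one)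
  have hdone : charDegree (one : G → ℂ) = 1 := by
    have h1 := IsCharacter.charDegree_cast
      (Cfsg.Agent.Lib.Char.Basic.isCharacter_of_isIrrCharacter one.2)
    rw [honev] at h1
    exact_mod_cast h1
  -- the subgroup of order `2^b`
  obtain ⟨K, hK⟩ := Sylow.exists_subgroup_card_pow_prime 2 (n := b) (G := G) (by rw [hG]; exact Dvd.intro_left _ rfl)
  letI : Fintype K := Fintype.ofFinite _
  have hKord : ∀ h : K, ¬ 3 ∣ orderOf (h : G) ∧ ¬ p ∣ orderOf (h : G) := by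
    intro h
    have h1 : orderOf (h : G) ∣ 2 ^ b := by
      rw [← hK]
      exact Subgroup.orderOf_dvd_natCard K h.2
    constructor
    · intro h2
      have h3 := Nat.prime_three.dvd_of_dvd_pow (h2.trans h1)
      omega
    · intro h2
      have h3 := (Nat.prime_dvd_prime_iff_eq hpp Nat.prime_two).1 (hpp.dvd_of_dvd_pow (h2.trans h1))
      exact hp2 h3
  choose a ha using fun χ : IrrCharacter G =>
    exists_nat_sum_subgroup (Cfsg.Agent.Lib.Char.Basic.isCharacter_of_isIrrCharacter χ.2) K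
  have hK0 : (Nat.card K : ℂ) ≠ 0 := by
    rw [hK]
    exact_mod_cast (by positivity : 2 ^ b ≠ 0)
  have hcK : ∑ _h : K, (1 : ℂ) = (Nat.card K : ℂ) := by
    rw [Finset.sum_const, Finset.card_univ, Nat.card_eq_fintype_card]
    simp
  have haone : a one = 1 := by
    have h1 := ha one
    simp only [honev] at h1
    rw [hcK] at h1
    have h2 : (a one : ℂ) = 1 := by
      have := mul_left_cancel₀ hK0 (show (Nat.card K : ℂ) * (a one : ℂ) = (Nat.card K : ℂ) * 1 by
        rw [← h1, mul_one])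
      exact this
    exact_mod_cast h2
  have haU : a U = a L + 1 := by
    have h1 := ha U
    have h1' : ∑ h : K, (U : G → ℂ) h = ∑ h : K, ((L : G → ℂ) h + 1) :=
      Finset.sum_congr rfl (fun h _ => hreg (h : G) (hKord h).1)
    rw [h1', Finset.sum_add_distrib, ha L, hcK] at h1
    have h2 : (a U : ℂ) = (a L : ℂ) + 1 := by
      apply mul_left_cancel₀ hK0
      rw [← h1]
      ring
    exact_mod_cast h2
  set f := a L with hf
  set c := a χ₃ with hc
  set d := charDegree (χ₃ : G → ℂ) with hd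
  have hδ₃ := hT.signX χ₃ hχ₃X
  have hεne : ε ≠ 0 := by
    rcases hT.sign with h | h <;> rw [h] <;> norm_num
  have hεC : (ε : ℂ) ≠ 0 := by exact_mod_cast hεne
  have hsumX : ∀ g : G, ∑ χ ∈ X, (δ χ : ℂ) * (χ : G → ℂ) g = 1 + (U : G → ℂ) g + (δ χ₃ : ℂ) * (χ₃ : G → ℂ) g := by
    intro g
    rw [sum_three h1X hUX hUone hχ₃, hδ1, hδU, honev]
    push_cast
    ring
  -- the relation at the identity and on `K`
  have hdegY : ∀ θ ∈ Y, ε * (charDegree (θ : G → ℂ) : ℤ) = 1 + ((p : ℤ) + 1) + δ χ₃ * (d : ℤ) := by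
    intro θ hθ
    have h1 := hT.rel 1 (by simpa using hpp.one_lt.ne') θ hθ
    rw [hsumX, ← IsCharacter.charDegree_cast (Cfsg.Agent.Lib.Char.Basic.isCharacter_of_isIrrCharacter θ.2),
      ← hcU, ← IsCharacter.charDegree_cast (Cfsg.Agent.Lib.Char.Basic.isCharacter_of_isIrrCharacter χ₃.2)] at h1
    have h2 : ((ε * (charDegree (θ : G → ℂ) : ℤ) : ℤ) : ℂ) = ((1 + ((p : ℤ) + 1) + δ χ₃ * (d : ℤ) : ℤ) : ℂ) := by
      push_cast
      push_cast at h1
      exact h1
    exact_mod_cast h2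
  have hcoefY : ∀ θ ∈ Y, ε * (a θ : ℤ) = 1 + ((f : ℤ) + 1) + δ χ₃ * (c : ℤ) := by
    intro θ hθ
    have h1 : ∑ h : K, (ε : ℂ) * (θ : G → ℂ) h =
        ∑ h : K, (1 + (U : G → ℂ) h + (δ χ₃ : ℂ) * (χ₃ : G → ℂ) h) := by
      apply Finset.sum_congr rfl
      intro h _
      rw [hT.rel (h : G) (hKord h).2 θ hθ, hsumX]
    rw [← Finset.mul_sum, ha θ, Finset.sum_add_distrib, Finset.sum_add_distrib, ← Finset.mul_sum, ha U, ha χ₃,
      hcK] at h1
    have h2 : (ε : ℂ) * (a θ : ℂ) = 1 + (a U : ℂ) + (δ χ₃ : ℂ) * (c : ℂ) := by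
      apply mul_left_cancel₀ hK0
      linear_combination h1
    rw [haU] at h2
    have h3 : ((ε * (a θ : ℤ) : ℤ) : ℂ) = ((1 + ((f : ℤ) + 1) + δ χ₃ * (c : ℤ) : ℤ) : ℂ) := by
      push_cast
      push_cast at h2
      exact h2
    exact_mod_cast h3
  -- a character in `Y`
  have hYne : Y.Nonempty := by
    rw [← Finset.card_pos, hT.cardY]
    omega
  obtain ⟨θ₀, hθ₀⟩ := hYne
  set ϑ := charDegree (θ₀ : G → ℂ) with hϑ
  set aθ := a θ₀ with haθ
  have hYdeg : ∀ θ ∈ Y, charDegree (θ : G → ℂ) = ϑ := by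
    intro θ hθ
    have h1 := hdegY θ hθ
    rw [← hdegY θ₀ hθ₀] at h1
    have h2 := mul_left_cancel₀ hεne h1
    exact_mod_cast h2
  have hYa : ∀ θ ∈ Y, a θ = aθ := by
    intro θ hθ
    have h1 := hcoefY θ hθ
    rw [← hcoefY θ₀ hθ₀] at h1
    have h2 := mul_left_cancel₀ hεne h1
    exact_mod_cast h2
  -- the sum
  have htotal := sum_coef K a ha
  rw [hK, hG] at htotal
  have htotal' : ∑ χ : IrrCharacter G, charDegree (χ : G → ℂ) * a χ = 3 * p := by
    apply Nat.eq_of_mul_eq_mul_right (by positivity : 0 < 2 ^ b)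
    exact htotal
  have hsub : ∑ χ ∈ insert L (X ∪ Y), charDegree (χ : G → ℂ) * a χ ≤ 3 * p := by
    rw [← htotal']
    exact Finset.sum_le_sum_of_subset (Finset.subset_univ _)
  rw [Finset.sum_insert (by simp [hLnX, hLnY]), Finset.sum_union hT.disj,
    sum_three h1X hUX hUone hχ₃, Finset.sum_congr rfl (fun θ hθ => by rw [hYdeg θ hθ, hYa θ hθ]),
    Finset.sum_const, hT.cardY, hdL, hdU', hdone, haone, haU, smul_eq_mul] at hsub
  have hsum : 1 + f * p + (f + 1) * (p + 1) + c * d + t * aθ * ϑ ≤ 3 * p := by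
    calc 1 + f * p + (f + 1) * (p + 1) + c * d + t * aθ * ϑ
        = p * f + (1 * 1 + ((p + 1) * (f + 1) + d * c) + t * (ϑ * aθ)) := by ring
      _ ≤ 3 * p := hsub
  have hdX : (d : ℤ) ≡ δ χ₃ [ZMOD p] := hT.degX χ₃ hχ₃X
  have h3 := mersenne_main hp7 ht hδ₃ hT.sign (hdegY θ₀ hθ₀) (hcoefY θ₀ hθ₀) hdX hd2 hsum
  exact psl_of_degree_three hna hG hp7 θ₀ h3

/-- The Mersenne branch. -/
theorem mersenne_case (hna : ∃ x y : G, x * y ≠ y * x) {p b i : ℕ} [hp : Fact p.Prime]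
    (hG : Nat.card G = 3 * p * 2 ^ b) (hi : 3 ≤ i) (hpe : p + 1 = 2 ^ i) (L U : IrrCharacter G)
    (hLne : (L : G → ℂ) ≠ fun _ => 1) (hUne : (U : G → ℂ) ≠ fun _ => 1)
    (hreg : ∀ g, ¬ 3 ∣ orderOf g → (U : G → ℂ) g = (L : G → ℂ) g + 1)
    (hsing : ∀ g, 3 ∣ orderOf g → (L : G → ℂ) g = 1 ∧ (U : G → ℂ) g = -1)
    (hdL : charDegree (L : G → ℂ) = p) (hdU : charDegree (U : G → ℂ) = 2 ^ i) :
    Nonempty (G ≃* Matrix.ProjectiveSpecialLinearGroup (Fin 2) (ZMod 7)) := by
  classical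
  letI : Fintype G := Fintype.ofFinite G
  have hpp := hp.out
  have h8i : 8 ≤ 2 ^ i := by
    calc 8 = 2 ^ 3 := by norm_num
      _ ≤ 2 ^ i := Nat.pow_le_pow_right (by norm_num) hi
  have hp7 : 7 ≤ p := by omega
  have hp3 : p ≠ 3 := by omega
  have hp2 : p ≠ 2 := by omega
  have hco3 : Nat.Coprime 3 p := (Nat.coprime_primes Nat.prime_three hpp).2 (Ne.symm hp3)
  have hco2 : Nat.Coprime 2 p := (Nat.coprime_primes Nat.prime_two hpp).2 (Ne.symm hp2)
  have hdvdp : p ∣ Nat.card G := by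
    rw [hG]
    exact Dvd.dvd.mul_right (Dvd.intro_left _ rfl) _
  have hnsq : ¬ p ^ 2 ∣ Nat.card G := by
    intro h
    rw [hG, pow_two, show 3 * p * 2 ^ b = p * (3 * 2 ^ b) by ring] at h
    have h1 := Nat.dvd_of_mul_dvd_mul_left hpp.pos h
    have h2 : Nat.Coprime p (3 * 2 ^ b) :=
      Nat.Coprime.mul_right hco3.symm (Nat.Coprime.pow_right _ hco2.symm)
    have h3 := Nat.Coprime.eq_one_of_dvd h2 h1
    omega
  let P : Sylow p G := default
  have hPcard : Nat.card P = p := card_sylow_of_not_sq P hdvdp hnsq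
  haveI : Nontrivial (P : Subgroup G) := by
    apply Finite.one_lt_card_iff_nontrivial.1
    change 1 < Nat.card P
    omega
  obtain ⟨⟨u, huP⟩, hune⟩ := exists_ne (1 : (P : Subgroup G))
  have hu1 : u ≠ 1 := fun h => hune (Subtype.ext h)
  obtain ⟨hz, H, hL⟩ := exists_localData P hPcard huP hu1
  have hord := hL.ord
  have hcen := mersenne_cen hna hG (by omega) L hLne hdL P hz hL
  have hζ : IsPrimitiveRoot (Complex.exp (2 * Real.pi * Complex.I / (p : ℕ))) p :=
    Complex.isPrimitiveRoot_exp p hpp.ne_zero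
  obtain ⟨e, t, X, Y, δ, ε, b', hT⟩ := exists_scTable hord hcen P hz hζ
  have h1 : p * e ∣ p * (3 * 2 ^ b) := by
    rw [← hT.cardN, show p * (3 * 2 ^ b) = 3 * p * 2 ^ b by ring, ← hG]
    exact Subgroup.card_subgroup_dvd_card _
  have h2 : e ∣ 3 * 2 ^ b := Nat.dvd_of_mul_dvd_mul_left hpp.pos h1
  have h3 : e ∣ 2 ^ i - 2 := ⟨t, by have := hT.het; omega⟩
  have h6 := mersenne_dvd_six (by omega) h3 h2
  have hcases : e = 1 ∨ e = 2 ∨ e = 3 ∨ e = 6 := by
    have hle := Nat.le_of_dvd (by norm_num) h6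
    have he0 := hT.epos
    interval_cases e <;> omega
  rcases hcases with rfl | rfl | rfl | rfl
  · exfalso
    apply not_normalizer_le hna P (by omega)
    rw [← hz]
    have hle : zpowers u ≤ normalizer (zpowers u : Set G) := Subgroup.le_normalizer
    have hNeq : zpowers u = normalizer (zpowers u : Set G) := by
      apply Subgroup.eq_of_le_of_card_ge hle
      rw [hT.cardN, Nat.card_zpowers, hord, mul_one]
    rw [← hNeq, centralizer_zpowers_of_cen hcen]
  · exfalso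
    obtain ⟨k, hk⟩ := index_of_card_normalizer (c := 1) hpp.pos hG (by rw [hT.cardN]; norm_num)
    have hdvd := dvd_of_index P (k := k) (by rw [← hz]; exact hk)
    apply mersenne_numeric_two hi (k := k)
    rw [show 2 ^ i - 1 = p by omega]
    exact hdvd
  · exact case_three hna hG hi hpe L U hLne hUne hreg hdL hdU P hz hL hT
  · exfalso
    exact no_six hna hG hi hpe L hLne (fun g hg => (hsing g hg).1) hdL P hz hL hcen hT.cardN ⟨t, hT.het⟩

end Cfsg.Agent.Lib.ThreePQ
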