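import Mathlib
import Cfsg.Agent.Lib.ThreePQ.Klein
import Cfsg.Agent.Lib.ThreePQ.Mersenne2

/-!
# Simple groups of order `3 p^a 2^b`
-/

set_option autoImplicit false
set_option linter.unusedSectionVars false
set_option linter.style.haveILetI false

namespace Cfsg.Agent.Lib.ThreePQ

open Cfsg Subgroup Module Finset
open Cfsg.Agent.Lib.Char.Values Cfsg.Agent.Lib.DefectOne

universe u

variable {G : Type u} [Group G] [Finite G] [IsSimpleGroup G]

/-- The order of a Sylow subgroup from a factorization of the group order. -/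
lemma card_sylow_of_factor {p a m : ℕ} [hp : Fact p.Prime] (P : Sylow p G) (h : Nat.card G = p ^ a * m)
    (hm : Nat.Coprime p m) : Nat.card P = p ^ a := by
  obtain ⟨k, hk⟩ := IsPGroup.iff_card.1 P.isPGroup'
  have h1 : p ^ a ∣ Nat.card P := P.pow_dvd_card_of_pow_dvd_card (by rw [h]; exact Dvd.intro _ rfl)
  have h2 : Nat.card P ∣ Nat.card G := Subgroup.card_subgroup_dvd_card _
  rw [h] at h2
  have h3 : Nat.Coprime (Nat.card P) m := by
    rw [hk]
    exact Nat.Coprime.pow_left _ hm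
  exact Nat.dvd_antisymm (h3.dvd_of_dvd_mul_right h2) h1

/-- Simple groups of order `3 p^a 2^b` with `a ≤ 2`. -/
theorem part_B (hna : ∃ x y : G, x * y ≠ y * x) {p a b : ℕ} (hp : p.Prime) (hp5 : 5 ≤ p) (ha1 : 1 ≤ a)
    (ha : a ≤ 2) (hG : Nat.card G = 3 * p ^ a * 2 ^ b) :
    Nonempty (G ≃* alternatingGroup (Fin 5)) ∨
      Nonempty (G ≃* Matrix.ProjectiveSpecialLinearGroup (Fin 2) (ZMod 7)) := by
  classical
  haveI hfp : Fact p.Prime := ⟨hp⟩
  haveI hf3 : Fact (Nat.Prime 3) := ⟨Nat.prime_three⟩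
  have hp3 : p ≠ 3 := by omega
  have hp2 : p ≠ 2 := by omega
  have hco3 : Nat.Coprime 3 p := (Nat.coprime_primes Nat.prime_three hp).2 (Ne.symm hp3)
  have hco2 : Nat.Coprime 2 p := (Nat.coprime_primes Nat.prime_two hp).2 (Ne.symm hp2)
  let R : Sylow 3 G := default
  have hRcard : Nat.card R = 3 := by
    have h1 := card_sylow_of_factor (a := 1) (m := p ^ a * 2 ^ b) R (by rw [hG]; ring)
      (Nat.Coprime.mul_right (Nat.Coprime.pow_right _ hco3) (Nat.Coprime.pow_right _ (by norm_num)))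
    simpa using h1
  obtain ⟨L, U, hLne, hUne, hreg, hsing⟩ := exists_LU hna R hRcard
  have hdeg := degrees hna hp hp5 ha1 ha hG L U hLne hUne hreg hsing
  let P : Sylow p G := default
  have hPcard : Nat.card P = p ^ a := card_sylow_of_factor (m := 3 * 2 ^ b) P (by rw [hG]; ring)
    (Nat.Coprime.mul_right hco3.symm (Nat.Coprime.pow_right _ hco2.symm))
  rcases hdeg with ⟨i, hi, hdL, hdU, hpe⟩ | ⟨i, hi, hdL, hdU, hpe⟩
  · have h1 := card_sylow_eq_of_degree hna P hPcard ha1 ha U hUne hdU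
    subst h1
    rw [pow_one] at hG
    exact fermat_case hna hG hi hpe L U hLne hsing hdL
  · have h1 := card_sylow_eq_of_degree hna P hPcard ha1 ha L hLne hdL
    subst h1
    rw [pow_one] at hG
    exact Or.inr (mersenne_case hna hG hi hpe L U hLne hUne hreg hsing hdL hdU)

end Cfsg.Agent.Lib.ThreePQ
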